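import Mathlib
import Cfsg.Agent.Lib.Helper35.SLBruhat

set_option autoImplicit false

namespace Cfsg.Agent.Lib.Helper35.SLPres

open scoped commutatorElement
open Cfsg.Agent.Lib.Helper35.SLn

section Pre

variable {ι : Type*} [Fintype ι] [DecidableEq ι] {F : Type*} [Field F] {E : Type*} [Group E]

/-- Steinberg data satisfying only the relations (R1), (R2) -/
structure IsPre (τ : E →* Matrix.SpecialLinearGroup ι F) (X : ι → ι → F → E) : Prop where
  map : ∀ i j t, i ≠ j → τ (X i j t) = ee i j t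
  add : ∀ i j s t, i ≠ j → X i j (s + t) = X i j s * X i j t
  comm : ∀ i j k s t, i ≠ j → j ≠ k → i ≠ k → ⁅X i j s, X j k t⁆ = X i k (s * t)
  commute : ∀ i j k l s t, i ≠ j → k ≠ l → j ≠ k → i ≠ l → Commute (X i j s) (X k l t)

variable {τ : E →* Matrix.SpecialLinearGroup ι F} {X : ι → ι → F → E}

theorem IsPre.zero (hX : IsPre τ X) {i j : ι} (hij : i ≠ j) : X i j 0 = 1 := by
  have := hX.add i j 0 0 hij
  rw [add_zero] at this
  exact (mul_eq_left.1 this.symm)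

theorem IsPre.neg (hX : IsPre τ X) {i j : ι} (hij : i ≠ j) (t : F) :
    X i j (-t) = (X i j t)⁻¹ := by
  have := hX.add i j t (-t) hij
  rw [add_neg_cancel, hX.zero hij] at this
  exact eq_inv_of_mul_eq_one_right this.symm

theorem pmap_ww (hX : IsPre τ X) {i j : ι} (hij : i ≠ j) (u : F) :
    τ (ww X i j u) = wS i j u := by
  unfold ww wS
  rw [map_mul, map_mul, hX.map i j u hij, hX.map j i _ hij.symm]

theorem pisMono_ww (hX : IsPre τ X) {i j : ι} (hij : i ≠ j) {u : F} (hu : u ≠ 0) :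
    IsMono (τ (ww X i j u)) (Equiv.swap i j) (dW i j u) := by
  rw [pmap_ww hX hij]; exact isMono_wS hij hu

theorem pww_neg (hX : IsPre τ X) {i j : ι} (hij : i ≠ j) (u : F) :
    ww X i j (-u) = (ww X i j u)⁻¹ := by
  unfold ww
  rw [_root_.mul_inv_rev, _root_.mul_inv_rev, ← hX.neg hij, ← hX.neg hij.symm]
  simp only [inv_neg, neg_neg, mul_assoc]

variable (hX : IsPre τ X)
include hX

theorem cj_commute {i j k l : ι} (hij : i ≠ j) (hkl : k ≠ l) (hjk : j ≠ k) (hil : i ≠ l)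
    (s t : F) : X i j s * X k l t * (X i j s)⁻¹ = X k l t := by
  rw [(hX.commute i j k l s t hij hkl hjk hil).eq, mul_inv_cancel_right]

theorem cj_left {i j k : ι} (hij : i ≠ j) (hjk : j ≠ k) (hik : i ≠ k) (s t : F) :
    X i j s * X j k t * (X i j s)⁻¹ = X i k (s * t) * X j k t := by
  rw [← hX.comm i j k s t hij hjk hik, commutatorElement_def]; group

theorem cj_right {i j k : ι} (hij : i ≠ j) (hjk : j ≠ k) (hik : i ≠ k) (s t : F) :
    X j k t * X i j s * (X j k t)⁻¹ = X i k (-(s * t)) * X i j s := by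
  rw [hX.neg hik, ← hX.comm i j k s t hij hjk hik, commutatorElement_def]; group

omit [Fintype ι] [DecidableEq ι] hX in
theorem ww_cj_eq (i j : ι) (u : F) (x : E) :
    ww X i j u * x * (ww X i j u)⁻¹ = X i j u * (X j i (-u⁻¹) * (X i j u * x * (X i j u)⁻¹) *
      (X j i (-u⁻¹))⁻¹) * (X i j u)⁻¹ := by
  unfold ww; group

omit [Fintype ι] [DecidableEq ι] hX in
theorem cj_mul (a x y : E) : a * (x * y) * a⁻¹ = (a * x * a⁻¹) * (a * y * a⁻¹) := by group

omit [Fintype ι] [DecidableEq ι] hX in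
theorem cj_comm (a x y : E) : a * ⁅x, y⁆ * a⁻¹ = ⁅a * x * a⁻¹, a * y * a⁻¹⁆ := by
  rw [commutatorElement_def, commutatorElement_def]; group

/-- case `(i, l)` -/
theorem ww_cj_il {i j l : ι} (hij : i ≠ j) (hil : i ≠ l) (hjl : j ≠ l) {u : F} (hu : u ≠ 0)
    (t : F) : ww X i j u * X i l t * (ww X i j u)⁻¹ = X j l (-u⁻¹ * t) := by
  have h1 : X i j u * X i l t * (X i j u)⁻¹ = X i l t := cj_commute hX hij hil hij.symm hil u t
  have h2 : X j i (-u⁻¹) * X i l t * (X j i (-u⁻¹))⁻¹ = X j l (-u⁻¹ * t) * X i l t :=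
    cj_left hX hij.symm hil hjl _ _
  have h3 : X i j u * X j l (-u⁻¹ * t) * (X i j u)⁻¹ =
      X i l (u * (-u⁻¹ * t)) * X j l (-u⁻¹ * t) := cj_left hX hij hjl hil _ _
  have hc : u * (-u⁻¹ * t) = -t := by field_simp
  have h4 : Commute (X i l t) (X j l (-u⁻¹ * t)) :=
    hX.commute i l j l _ _ hil hjl (Ne.symm hjl) hil
  rw [ww_cj_eq, h1, h2, cj_mul (X i j u), h3, h1, hc, hX.neg hil]
  exact h4.inv_mul_cancel

/-- case `(j, l)` -/
theorem ww_cj_jl {i j l : ι} (hij : i ≠ j) (hil : i ≠ l) (hjl : j ≠ l) {u : F} (hu : u ≠ 0)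
    (t : F) : ww X i j u * X j l t * (ww X i j u)⁻¹ = X i l (u * t) := by
  have h1 : X i j u * X j l t * (X i j u)⁻¹ = X i l (u * t) * X j l t :=
    cj_left hX hij hjl hil u t
  have h2 : X j i (-u⁻¹) * X i l (u * t) * (X j i (-u⁻¹))⁻¹ =
      X j l (-u⁻¹ * (u * t)) * X i l (u * t) := cj_left hX hij.symm hil hjl _ _
  have h3 : X j i (-u⁻¹) * X j l t * (X j i (-u⁻¹))⁻¹ = X j l t :=
    cj_commute hX hij.symm hjl hij hjl _ _
  have hc : -u⁻¹ * (u * t) = -t := by field_simp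
  have h4 : Commute (X j l t) (X i l (u * t)) :=
    hX.commute j l i l _ _ hjl hil (Ne.symm hil) hjl
  have h5 : X i j u * X i l (u * t) * (X i j u)⁻¹ = X i l (u * t) :=
    cj_commute hX hij hil hij.symm hil _ _
  rw [ww_cj_eq, h1, cj_mul (X j i (-u⁻¹)), h2, h3, hc, hX.neg hjl, h4.inv_mul_cancel, h5]

/-- case `(k, i)` -/
theorem ww_cj_ki {i j k : ι} (hij : i ≠ j) (hki : k ≠ i) (hkj : k ≠ j) {u : F} (hu : u ≠ 0)
    (t : F) : ww X i j u * X k i t * (ww X i j u)⁻¹ = X k j (-(t * u)) := by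
  have h1 : X i j u * X k i t * (X i j u)⁻¹ = X k j (-(t * u)) * X k i t :=
    cj_right hX hki hij hkj t u
  have h2 : X j i (-u⁻¹) * X k j (-(t * u)) * (X j i (-u⁻¹))⁻¹ =
      X k i (-(-(t * u) * -u⁻¹)) * X k j (-(t * u)) := cj_right hX hkj hij.symm hki _ _
  have h3 : X j i (-u⁻¹) * X k i t * (X j i (-u⁻¹))⁻¹ = X k i t :=
    cj_commute hX hij.symm hki (Ne.symm hki) hij.symm _ _
  have hc : -(-(t * u) * -u⁻¹) = -t := by field_simp
  have h4 : Commute (X k i t) (X k j (-(t * u))) :=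
    hX.commute k i k j _ _ hki hkj (Ne.symm hki) hkj
  have h5 : X i j u * X k j (-(t * u)) * (X i j u)⁻¹ = X k j (-(t * u)) :=
    cj_commute hX hij hkj (Ne.symm hkj) hij _ _
  rw [ww_cj_eq, h1, cj_mul (X j i (-u⁻¹)), h2, h3, hc, hX.neg hki, h4.inv_mul_cancel, h5]

/-- case `(k, j)` -/
theorem ww_cj_kj {i j k : ι} (hij : i ≠ j) (hki : k ≠ i) (hkj : k ≠ j) {u : F} (hu : u ≠ 0)
    (t : F) : ww X i j u * X k j t * (ww X i j u)⁻¹ = X k i (t * u⁻¹) := by
  have h1 : X i j u * X k j t * (X i j u)⁻¹ = X k j t :=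
    cj_commute hX hij hkj (Ne.symm hkj) hij _ _
  have h2 : X j i (-u⁻¹) * X k j t * (X j i (-u⁻¹))⁻¹ = X k i (-(t * -u⁻¹)) * X k j t :=
    cj_right hX hkj hij.symm hki _ _
  have hc' : -(t * -u⁻¹) = t * u⁻¹ := by ring
  have h3 : X i j u * X k i (t * u⁻¹) * (X i j u)⁻¹ = X k j (-(t * u⁻¹ * u)) * X k i (t * u⁻¹) :=
    cj_right hX hki hij hkj _ _
  have hc : -(t * u⁻¹ * u) = -t := by field_simp
  have h4 : Commute (X k j t) (X k i (t * u⁻¹)) :=
    hX.commute k j k i _ _ hkj hki (Ne.symm hkj) hki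
  rw [ww_cj_eq, h1, h2, hc', cj_mul (X i j u), h3, h1, hc, hX.neg hkj, h4.inv_mul_cancel]

/-- case of disjoint supports -/
theorem ww_cj_kl {i j k l : ι} (hij : i ≠ j) (hkl : k ≠ l) (hki : k ≠ i) (hkj : k ≠ j)
    (hli : l ≠ i) (hlj : l ≠ j) (u t : F) :
    ww X i j u * X k l t * (ww X i j u)⁻¹ = X k l t := by
  have h1 : X i j u * X k l t * (X i j u)⁻¹ = X k l t :=
    cj_commute hX hij hkl (Ne.symm hkj) (Ne.symm hli) _ _
  have h2 : X j i (-u⁻¹) * X k l t * (X j i (-u⁻¹))⁻¹ = X k l t :=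
    cj_commute hX hij.symm hkl (Ne.symm hki) (Ne.symm hlj) _ _
  rw [ww_cj_eq, h1, h2, h1]

/-- case `(i, j)` -/
theorem ww_cj_ij {i j m : ι} (hij : i ≠ j) (hmi : m ≠ i) (hmj : m ≠ j) {u : F} (hu : u ≠ 0)
    (t : F) : ww X i j u * X i j t * (ww X i j u)⁻¹ = X j i (-u⁻¹ * u⁻¹ * t) := by
  have h1 := hX.comm i m j t 1 (Ne.symm hmi) hmj hij
  rw [mul_one] at h1
  rw [← h1, cj_comm, ww_cj_il hX hij (Ne.symm hmi) (Ne.symm hmj) hu,
    ww_cj_kj hX hij hmi hmj hu, hX.comm j m i _ _ (Ne.symm hmj) hmi hij.symm]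
  congr 1
  ring

/-- case `(j, i)` -/
theorem ww_cj_ji {i j m : ι} (hij : i ≠ j) (hmi : m ≠ i) (hmj : m ≠ j) {u : F} (hu : u ≠ 0)
    (t : F) : ww X i j u * X j i t * (ww X i j u)⁻¹ = X i j (-(u * u * t)) := by
  have h1 := hX.comm j m i t 1 (Ne.symm hmj) hmi hij.symm
  rw [mul_one] at h1
  rw [← h1, cj_comm, ww_cj_jl hX hij (Ne.symm hmi) (Ne.symm hmj) hu,
    ww_cj_ki hX hij hmi hmj hu, hX.comm i m j _ _ (Ne.symm hmi) hmj hij]
  congr 1
  ring

/-- conjugation of a root element by a Weyl element, from the relations only -/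
theorem ww_cj (hn : 3 ≤ Fintype.card ι) {i j : ι} (hij : i ≠ j) {u : F} (hu : u ≠ 0)
    {k l : ι} (hkl : k ≠ l) (t : F) :
    ww X i j u * X k l t * (ww X i j u)⁻¹ =
      X (Equiv.swap i j k) (Equiv.swap i j l) (dW i j u k * (dW i j u l)⁻¹ * t) := by
  obtain ⟨m, hmi, hmj⟩ := exists_ne2 hn i j
  by_cases hki : k = i
  · subst hki
    by_cases hlj : l = j
    · subst hlj
      rw [ww_cj_ij hX hij hmi hmj hu, Equiv.swap_apply_left, Equiv.swap_apply_right]
      congr 1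
      simp [dW, hij.symm]
    · rw [ww_cj_il hX hij hkl (Ne.symm hlj) hu, Equiv.swap_apply_left,
        Equiv.swap_apply_of_ne_of_ne (Ne.symm hkl) hlj]
      congr 1
      simp [dW, Ne.symm hkl, hlj]
  · by_cases hkj : k = j
    · subst hkj
      by_cases hli : l = i
      · subst hli
        rw [ww_cj_ji hX hij hmi hmj hu, Equiv.swap_apply_left, Equiv.swap_apply_right]
        congr 1
        simp only [dW, if_true, hij.symm, if_false]
        field_simp
      · rw [ww_cj_jl hX hij (Ne.symm hli) hkl hu, Equiv.swap_apply_right,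
          Equiv.swap_apply_of_ne_of_ne hli (Ne.symm hkl)]
        congr 1
        simp [dW, hki, hli, Ne.symm hkl]
    · by_cases hli : l = i
      · subst hli
        rw [ww_cj_ki hX hij hki hkj hu, Equiv.swap_apply_left,
          Equiv.swap_apply_of_ne_of_ne hki hkj]
        congr 1
        simp only [dW, if_true, hki, hkj, if_false]
        field_simp
      · by_cases hlj : l = j
        · subst hlj
          rw [ww_cj_kj hX hij hki hkj hu, Equiv.swap_apply_right,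
            Equiv.swap_apply_of_ne_of_ne hki hkj]
          congr 1
          simp only [dW, if_true, hki, hkj, hli, if_false]
          field_simp
        · rw [ww_cj_kl hX hij hkl hki hkj hli hlj, Equiv.swap_apply_of_ne_of_ne hki hkj,
            Equiv.swap_apply_of_ne_of_ne hli hlj]
          congr 1
          simp [dW, hki, hkj, hli, hlj]

end Pre

section WTs

variable {ι : Type*} [Fintype ι] [DecidableEq ι] {F : Type*} [Field F] {E : Type*} [Group E]
  {τ : E →* Matrix.SpecialLinearGroup ι F} {X : ι → ι → F → E}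

/-- the lifted monomial group -/
def WT (X : ι → ι → F → E) : Subgroup E :=
  Subgroup.closure {x | ∃ (i j : ι) (u : F), i ≠ j ∧ u ≠ 0 ∧ x = ww X i j u}

/-- conjugation data -/
def CJ (τ : E →* Matrix.SpecialLinearGroup ι F) (X : ι → ι → F → E) (e : E)
    (π : Equiv.Perm ι) (d : ι → F) : Prop :=
  IsMono (τ e) π d ∧ ∀ k l t, k ≠ l → e * X k l t * e⁻¹ = X (π k) (π l) (d k * (d l)⁻¹ * t)

theorem CJ.mul {x y : E} {π π' : Equiv.Perm ι} {d d' : ι → F} (h : CJ τ X x π d)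
    (h' : CJ τ X y π' d') : CJ τ X (x * y) (π * π') (fun b => d' b * d (π' b)) := by
  refine ⟨by rw [map_mul]; exact h.1.mul h'.1, fun k l t hkl => ?_⟩
  have hπ : π' k ≠ π' l := fun h => hkl (π'.injective h)
  have e1 : x * y * X k l t * (x * y)⁻¹ = x * (y * X k l t * y⁻¹) * x⁻¹ := by group
  rw [e1, h'.2 k l t hkl, h.2 _ _ _ hπ, Equiv.Perm.mul_apply, Equiv.Perm.mul_apply]
  congr 1
  have := h.1.ne_zero (π' l)
  have := h'.1.ne_zero l
  field_simp

theorem CJ.inv {x : E} {π : Equiv.Perm ι} {d : ι → F} (h : CJ τ X x π d) :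
    CJ τ X x⁻¹ π⁻¹ (fun b => (d (π⁻¹ b))⁻¹) := by
  refine ⟨by rw [map_inv]; exact h.1.inv, fun k l t hkl => ?_⟩
  have hπ : π⁻¹ k ≠ π⁻¹ l := fun h => hkl (π⁻¹.injective h)
  have h1 := h.2 (π⁻¹ k) (π⁻¹ l) ((d (π⁻¹ k))⁻¹ * ((d (π⁻¹ l))⁻¹)⁻¹ * t) hπ
  have e1 : π (π⁻¹ k) = k := by simp
  have e2 : π (π⁻¹ l) = l := by simp
  have hc : d (π⁻¹ k) * (d (π⁻¹ l))⁻¹ * ((d (π⁻¹ k))⁻¹ * ((d (π⁻¹ l))⁻¹)⁻¹ * t) = t := by
    have := h.1.ne_zero (π⁻¹ k)
    have := h.1.ne_zero (π⁻¹ l)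
    field_simp
  rw [e1, e2, hc] at h1
  rw [← h1]; group

variable (hX : IsPre τ X) (hn : 3 ≤ Fintype.card ι)
include hX hn

theorem WT_cj {e : E} (he : e ∈ WT X) : ∃ π d, CJ τ X e π d := by
  unfold WT at he
  induction he using Subgroup.closure_induction with
  | mem x hx =>
    obtain ⟨i, j, u, hij, hu, rfl⟩ := hx
    exact ⟨_, _, pisMono_ww hX hij hu, fun k l t hkl => ww_cj hX hn hij hu hkl t⟩
  | one => exact ⟨1, fun _ => 1, by rw [map_one]; exact IsMono.one, fun k l t _ => by simp⟩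
  | mul x y _ _ hx hy =>
    obtain ⟨π, d, h⟩ := hx
    obtain ⟨π', d', h'⟩ := hy
    exact ⟨_, _, h.mul h'⟩
  | inv x _ hx =>
    obtain ⟨π, d, h⟩ := hx
    exact ⟨_, _, h.inv⟩

theorem WT_mono {e : E} (he : e ∈ WT X) : ∃ π d, IsMono (τ e) π d := by
  obtain ⟨π, d, h, -⟩ := WT_cj hX hn he
  exact ⟨π, d, h⟩

theorem WT_conj {e : E} (he : e ∈ WT X) {π : Equiv.Perm ι} {d : ι → F}
    (hm : IsMono (τ e) π d) {i j : ι} (hij : i ≠ j) (t : F) :
    e * X i j t * e⁻¹ = X (π i) (π j) (d i * (d j)⁻¹ * t) := by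
  obtain ⟨π', d', h1, h2⟩ := WT_cj hX hn he
  have hπ := h1.perm_eq hm
  subst hπ
  rw [h2 i j t hij, h1.coeff_eq hm i, h1.coeff_eq hm j]

omit [Fintype ι] [DecidableEq ι] hX hn in
theorem ww_mem_WT {i j : ι} (hij : i ≠ j) {u : F} (hu : u ≠ 0) : ww X i j u ∈ WT X :=
  Subgroup.subset_closure ⟨i, j, u, hij, hu, rfl⟩

theorem pww_conj {e : E} (he : e ∈ WT X) {π : Equiv.Perm ι} {d : ι → F}
    (hm : IsMono (τ e) π d) {i j : ι} (hij : i ≠ j) {u : F} (hu : u ≠ 0) :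
    e * ww X i j u * e⁻¹ = ww X (π i) (π j) (d i * (d j)⁻¹ * u) := by
  have h1 : e * ww X i j u * e⁻¹ =
      (e * X i j u * e⁻¹) * (e * X j i (-u⁻¹) * e⁻¹) * (e * X i j u * e⁻¹) := by
    unfold ww; group
  rw [h1, WT_conj hX hn he hm hij, WT_conj hX hn he hm hij.symm]
  unfold ww
  congr 3
  have := hm.ne_zero i
  have := hm.ne_zero j
  field_simp

theorem pww_symm {i j : ι} (hij : i ≠ j) {u : F} (hu : u ≠ 0) :
    ww X j i u = ww X i j (-u⁻¹) := by
  have hr : -u⁻¹ ≠ 0 := neg_ne_zero.2 (inv_ne_zero hu)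
  have hc := ww_cj hX hn hij hr hij (-u⁻¹)
  rw [Equiv.swap_apply_left, Equiv.swap_apply_right] at hc
  have hcoef : dW i j (-u⁻¹) i * (dW i j (-u⁻¹) j)⁻¹ * -u⁻¹ = u := by
    simp only [dW, if_true, hij.symm, if_false]
    field_simp
  rw [hcoef] at hc
  have h2 : ww X i j (-u⁻¹) = X i j (-u⁻¹) * X j i u * X i j (-u⁻¹) := by
    unfold ww
    rw [inv_neg, inv_inv, neg_neg]
  have h3 : ww X j i u = X j i u * X i j (-u⁻¹) * X j i u := rfl
  rw [mul_inv_eq_iff_eq_mul] at hc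
  rw [h3]
  rw [h2] at hc ⊢
  have := mul_right_cancel (b := X i j (-u⁻¹)) (by
    calc X i j (-u⁻¹) * X j i u * X i j (-u⁻¹) * X i j (-u⁻¹) = _ := hc
      _ = X j i u * X i j (-u⁻¹) * X j i u * X i j (-u⁻¹) := by group)
  exact this.symm

omit hn in
theorem pX_eq_ww {i j : ι} (hij : i ≠ j) (t : F) :
    X j i t = X i j t⁻¹ * ww X i j (-t⁻¹) * X i j t⁻¹ := by
  unfold ww
  have h1 : -(-t⁻¹)⁻¹ = t := by rw [inv_neg, inv_inv, neg_neg]
  rw [h1, hX.neg hij]
  group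

theorem pww_conj_X {i j : ι} (hij : i ≠ j) {a : F} (ha : a ≠ 0) (t : F) :
    ww X i j a * X i j t * (ww X i j a)⁻¹ = X j i (-a⁻¹ * a⁻¹ * t) := by
  have := ww_cj hX hn hij ha hij t
  rw [Equiv.swap_apply_left, Equiv.swap_apply_right] at this
  rw [this]
  congr 1
  simp [dW, hij.symm]

/-- elements of the lifted monomial group in the kernel are central -/
theorem WT_ker_central (hgen : Subgroup.closure {x | ∃ (i j : ι) (t : F), i ≠ j ∧
    x = X i j t} = ⊤) {e : E} (he : e ∈ WT X) (hτ : τ e = 1) : e ∈ Subgroup.center E := by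
  have hm : IsMono (τ e) 1 (fun _ => 1) := by rw [hτ]; exact IsMono.one
  have hle : Subgroup.closure {x | ∃ (i j : ι) (t : F), i ≠ j ∧ x = X i j t} ≤
      Subgroup.centralizer {e} := by
    rw [Subgroup.closure_le]
    rintro x ⟨i, j, t, hij, rfl⟩
    rw [SetLike.mem_coe, Subgroup.mem_centralizer_iff]
    intro h hh
    rw [Set.mem_singleton_iff] at hh
    subst hh
    have h1 := WT_conj hX hn he hm hij t
    simp only [Equiv.Perm.one_apply, inv_one, mul_one, one_mul] at h1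
    rw [mul_inv_eq_iff_eq_mul] at h1
    exact h1
  rw [Subgroup.mem_center_iff]
  intro g
  have hg : g ∈ Subgroup.centralizer {e} := hle (by rw [hgen]; trivial)
  rw [Subgroup.mem_centralizer_iff] at hg
  exact (hg e rfl).symm

end WTs

end Cfsg.Agent.Lib.Helper35.SLPres
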