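import Mathlib
import Cfsg.Agent.Lib.Helper35.Pres.Weyl

set_option autoImplicit false

namespace Cfsg.Agent.Lib.Helper35.SLPres

open scoped commutatorElement
open Cfsg.Agent.Lib.Helper35.SLn

section UInj

variable {n : ℕ} {F : Type*} [Field F] {E : Type*} [Group E]
  {τ : E →* Matrix.SpecialLinearGroup (Fin n) F} {X : Fin n → Fin n → F → E}

variable (hX : IsPre τ X)
include hX

theorem pdrow_fix (i₀ : Fin n) {d : E} (hd : d ∈ Drow X (i₀.val + 1)) (v : Fin n → F) :
    (τ d • v) i₀ = v i₀ := by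
  unfold Drow at hd
  induction hd using Subgroup.closure_induction generalizing v with
  | mem x hx =>
    obtain ⟨i, j, t, hi, hij, rfl⟩ := hx
    have hne : i₀ ≠ i := by
      intro h; rw [h] at hi; omega
    rw [hX.map i j t (ne_of_lt hij), ee_smul_apply (ne_of_lt hij), if_neg hne, add_zero]
  | one => simp
  | mul x y _ _ hx hy => rw [map_mul, mul_smul, hx, hy]
  | inv x _ hx =>
    have := hx (τ x⁻¹ • v)
    rw [map_inv, smul_inv_smul] at this
    rw [map_inv]; exact this.symm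

theorem prow_inj (i₀ : Fin n) {ρ : E} (hρ : ρ ∈ Rrow X i₀)
    (hfix : ∀ v : Fin n → F, (τ ρ • v) i₀ = v i₀) : ρ = 1 := by
  classical
  let φ : {b : Fin n // i₀ < b} → Multiplicative F →* E := fun b =>
    MonoidHom.mk' (fun t => X i₀ b.1 (Multiplicative.toAdd t))
      (fun s t => by rw [toAdd_mul, hX.add _ _ _ _ (ne_of_lt b.2)])
  have hcomm : Pairwise fun b b' : {b : Fin n // i₀ < b} =>
      ∀ x y, Commute (φ b x) (φ b' y) := fun b b' _ x y =>
    hX.commute i₀ b.1 i₀ b'.1 _ _ (ne_of_lt b.2) (ne_of_lt b'.2) (ne_of_gt b.2) (ne_of_lt b'.2)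
  obtain ⟨ρh, hρh⟩ : ∃ ρh : ({b : Fin n // i₀ < b} → Multiplicative F) →* E,
      ρh = MonoidHom.noncommPiCoprod φ hcomm := ⟨_, rfl⟩
  have hsingle : ∀ (b : {b : Fin n // i₀ < b}) (x : Multiplicative F),
      ρh (Pi.mulSingle b x) = X i₀ b.1 (Multiplicative.toAdd x) := by
    intro b x
    rw [hρh, MonoidHom.noncommPiCoprod_mulSingle]
    rfl
  have hR : Rrow X i₀ ≤ ρh.range := by
    unfold Rrow
    rw [Subgroup.closure_le]
    rintro x ⟨j, t, hj, rfl⟩
    exact ⟨Pi.mulSingle ⟨j, hj⟩ (Multiplicative.ofAdd t), by rw [hsingle]; rfl⟩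
  obtain ⟨v, rfl⟩ := hR hρ
  have hact : ∀ v : {b : Fin n // i₀ < b} → Multiplicative F, ∀ b' : Fin n,
      τ (ρh v) • (Pi.single b' 1 : Fin n → F) = Pi.single b' 1 +
        (if h : i₀ < b' then Multiplicative.toAdd (v ⟨b', h⟩) else 0) • Pi.single i₀ 1 := by
    intro v
    refine pi_induction (fun v => ∀ b' : Fin n,
      τ (ρh v) • (Pi.single b' 1 : Fin n → F) = Pi.single b' 1 +
        (if h : i₀ < b' then Multiplicative.toAdd (v ⟨b', h⟩) else 0) • Pi.single i₀ 1)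
      ?_ ?_ ?_ v
    · intro v v' h h' b'
      have h0 := h i₀
      rw [dif_neg (lt_irrefl _), zero_smul, add_zero] at h0
      rw [map_mul, map_mul, mul_smul, h' b', smul_add, h b', smul_comm, h0, add_assoc, ← add_smul]
      congr 2
      by_cases hb : i₀ < b'
      · simp [hb, toAdd_mul]
      · simp [hb]
    · intro b'; simp
    · intro b x b'
      rw [hsingle, hX.map _ _ _ (ne_of_lt b.2), ee_smul (ne_of_lt b.2)]
      congr 1
      by_cases hb : b' = b.1
      · subst hb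
        simp [b.2]
      · have hb' : ∀ h : i₀ < b', (⟨b', h⟩ : {b : Fin n // i₀ < b}) ≠ b := by
          intro h h'
          apply hb
          rw [← h']
        by_cases hlt : i₀ < b'
        · simp [hb, hlt, hb' hlt]
        · simp [hb, hlt]
  have hv : v = 1 := by
    funext b
    have h1 := hfix (Pi.single b.1 1)
    rw [hact v b.1, dif_pos b.2] at h1
    have hne : i₀ ≠ b.1 := ne_of_lt b.2
    simp [Pi.single_apply, hne] at h1
    exact h1
  rw [hv, map_one]

theorem pconj_mem_rrow {i₀ i j : Fin n} (hi : i₀ < i) (hij : i < j) (t : F) {ρ : E}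
    (hρ : ρ ∈ Rrow X i₀) : X i j t * ρ * (X i j t)⁻¹ ∈ Rrow X i₀ := by
  unfold Rrow at hρ ⊢
  induction hρ using Subgroup.closure_induction with
  | mem x hx =>
    obtain ⟨l, s, hl, rfl⟩ := hx
    by_cases hli : l = i
    · subst hli
      have h1 := hX.comm i₀ l j s t (ne_of_lt hi) (ne_of_lt hij) (ne_of_lt (hi.trans hij))
      have h2 : X l j t * X i₀ l s * (X l j t)⁻¹ = (X i₀ j (s * t))⁻¹ * X i₀ l s := by
        rw [← h1, commutatorElement_def]; group
      rw [h2]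
      exact mul_mem (inv_mem (Subgroup.subset_closure ⟨j, _, hi.trans hij, rfl⟩))
        (Subgroup.subset_closure ⟨l, _, hl, rfl⟩)
    · have h1 := hX.commute i₀ l i j s t (ne_of_lt hl) (ne_of_lt hij) hli
        (ne_of_lt (hi.trans hij))
      rw [← h1.eq, mul_inv_cancel_right]
      exact Subgroup.subset_closure ⟨l, _, hl, rfl⟩
  | one => simp
  | mul x y _ _ hx hy =>
    have : X i j t * (x * y) * (X i j t)⁻¹ =
        (X i j t * x * (X i j t)⁻¹) * (X i j t * y * (X i j t)⁻¹) := by group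
    rw [this]; exact mul_mem hx hy
  | inv x _ hx =>
    have : X i j t * x⁻¹ * (X i j t)⁻¹ = (X i j t * x * (X i j t)⁻¹)⁻¹ := by group
    rw [this]; exact inv_mem hx

theorem pdrow_decomp (i₀ : Fin n) {u : E} (hu : u ∈ Drow X i₀.val) :
    ∃ d ∈ Drow X (i₀.val + 1), ∃ ρ ∈ Rrow X i₀, u = d * ρ := by
  have hgen : ∀ (x : E), x ∈ {x | ∃ (i j : Fin n) (t : F), i₀.val ≤ i.val ∧ i < j ∧ x = X i j t} →
      ∀ d ∈ Drow X (i₀.val + 1), ∀ ρ ∈ Rrow X i₀,
      ∃ d' ∈ Drow X (i₀.val + 1), ∃ ρ' ∈ Rrow X i₀, d * ρ * x = d' * ρ' := by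
    rintro x ⟨i, j, t, hi, hij, rfl⟩ d hd ρ hρ
    by_cases hii : i = i₀
    · subst hii
      exact ⟨d, hd, ρ * X i j t, mul_mem hρ (Subgroup.subset_closure ⟨j, t, hij, rfl⟩),
        by group⟩
    · have hlt : i₀ < i := lt_of_le_of_ne hi (Ne.symm hii)
      refine ⟨d * X i j t, mul_mem hd (Subgroup.subset_closure ⟨i, j, t, hlt, hij, rfl⟩),
        X i j (-t) * ρ * (X i j (-t))⁻¹, pconj_mem_rrow hX hlt hij (-t) hρ, ?_⟩
      rw [hX.neg (ne_of_lt hij)]
      group
  unfold Drow at hu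
  induction hu using Subgroup.closure_induction_right with
  | one => exact ⟨1, one_mem _, 1, one_mem _, by simp⟩
  | mul_right x _ y hy ih =>
    obtain ⟨d, hd, ρ, hρ, rfl⟩ := ih
    exact hgen y hy d hd ρ hρ
  | mul_inv_cancel x _ y hy ih =>
    obtain ⟨d, hd, ρ, hρ, rfl⟩ := ih
    obtain ⟨i, j, t, hi, hij, rfl⟩ := hy
    refine hgen (X i j t)⁻¹ ⟨i, j, -t, hi, hij, ?_⟩ d hd ρ hρ
    rw [hX.neg (ne_of_lt hij)]

theorem pdrow_inj : ∀ (k r : ℕ), n ≤ r + k → ∀ u ∈ Drow X r, τ u = 1 → u = 1 := by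
  intro k
  induction k with
  | zero =>
    intro r hr u hu _
    have hempty : {x | ∃ (i j : Fin n) (t : F), r ≤ i.val ∧ i < j ∧ x = X i j t} = (∅ : Set E) := by
      ext x
      simp only [Set.mem_setOf_eq, Set.mem_empty_iff_false, iff_false]
      rintro ⟨i, j, t, hi, -, -⟩
      have := i.2
      omega
    unfold Drow at hu
    rw [hempty, Subgroup.closure_empty] at hu
    exact Subgroup.mem_bot.1 hu
  | succ k ih =>
    intro r hr u hu hτ
    by_cases hrn : n ≤ r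
    · exact ih r (by omega) u hu hτ
    · have hu' : u ∈ Drow X (⟨r, by omega⟩ : Fin n).val := hu
      obtain ⟨d, hd, ρ, hρ, rfl⟩ := pdrow_decomp hX ⟨r, by omega⟩ hu'
      have hρ1 : ρ = 1 := by
        apply prow_inj hX ⟨r, by omega⟩ hρ
        intro v
        have h1 := pdrow_fix hX ⟨r, by omega⟩ hd (τ ρ • v)
        rw [← mul_smul, ← map_mul, hτ, one_smul] at h1
        exact h1.symm
      rw [hρ1, mul_one] at hτ ⊢
      exact ih (r + 1) (by omega) d hd hτ

end UInj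

section Bruhat

variable {m : ℕ} {F : Type*} [Field F] {E : Type*} [Group E]
  {τ : E →* Matrix.SpecialLinearGroup (Fin (m + 1)) F} {X : Fin (m + 1) → Fin (m + 1) → F → E}

/-- the big cell decomposition -/
def PInS (X : Fin (m + 1) → Fin (m + 1) → F → E) (z : E) : Prop :=
  ∃ u₁ ∈ UU X, ∃ w ∈ WT X, ∃ u₂ ∈ UU X, z = u₁ * w * u₂

theorem pinS_mul_left_UU {z u : E} (hu : u ∈ UU X) (hz : PInS X z) : PInS X (u * z) := by
  obtain ⟨u₁, hu₁, w, hw, u₂, hu₂, rfl⟩ := hz
  exact ⟨u * u₁, mul_mem hu hu₁, w, hw, u₂, hu₂, by group⟩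

theorem pcard_fin_ge {m : ℕ} (hm : 2 ≤ m) : 3 ≤ Fintype.card (Fin (m + 1)) := by
  rw [Fintype.card_fin]; omega

variable (hX : IsPre τ X)
include hX

theorem pUU_flag {u : E} (hu : u ∈ UU X) (v : Fin (m + 1) → F) (b : Fin (m + 1))
    (hv : ∀ a, b < a → v a = 0) : (∀ a, b < a → (τ u • v) a = 0) ∧ (τ u • v) b = v b := by
  unfold UU at hu
  induction hu using Subgroup.closure_induction_left generalizing v with
  | one => rw [map_one, one_smul]; exact ⟨hv, rfl⟩
  | mul_left x hx y _ ih =>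
    obtain ⟨i, j, t, hij, rfl⟩ := hx
    obtain ⟨h1, h2⟩ := ih v hv
    rw [map_mul, mul_smul, hX.map i j t (ne_of_lt hij)]
    obtain ⟨h3, h4⟩ := ee_flag hij t (τ y • v) b h1
    exact ⟨h3, h4.trans h2⟩
  | inv_mul_cancel x hx y _ ih =>
    obtain ⟨i, j, t, hij, rfl⟩ := hx
    obtain ⟨h1, h2⟩ := ih v hv
    rw [map_mul, mul_smul, ← hX.neg (ne_of_lt hij), hX.map i j _ (ne_of_lt hij)]
    obtain ⟨h3, h4⟩ := ee_flag hij (-t) (τ y • v) b h1
    exact ⟨h3, h4.trans h2⟩

theorem pUU_mono_eq_one {u : E} (hu : u ∈ UU X) {π : Equiv.Perm (Fin (m + 1))}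
    {d : Fin (m + 1) → F} (hmono : IsMono (τ u) π d) : τ u = 1 := by
  refine ext_smul fun b => ?_
  have h1 := (pUU_flag hX hu (Pi.single b 1) b (fun a ha => by
    rw [Pi.single_apply, if_neg (ne_of_gt ha)])).2
  rw [hmono b] at h1
  simp only [Pi.smul_apply, Pi.single_apply, smul_eq_mul, if_true, mul_ite, mul_one,
    mul_zero] at h1
  by_cases hb : b = π b
  · rw [if_pos hb] at h1
    rw [hmono b, ← hb, h1, one_smul, one_smul]
  · rw [if_neg hb] at h1
    exact absurd h1 zero_ne_one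

theorem pUU_inj {u : E} (hu : u ∈ UU X) (hτ : τ u = 1) : u = 1 := by
  refine pdrow_inj hX (m + 1) 0 (by omega) u ?_ hτ
  unfold UU at hu
  unfold Drow
  refine Subgroup.closure_mono ?_ hu
  rintro x ⟨i, j, t, hij, rfl⟩
  exact ⟨i, j, t, Nat.zero_le _, hij, rfl⟩

theorem pX_mul_mono (hn : 3 ≤ Fintype.card (Fin (m + 1))) {w : E} (hw : w ∈ WT X)
    {π : Equiv.Perm (Fin (m + 1))} {d : Fin (m + 1) → F}
    (hmono : IsMono (τ w) π d) {a b : Fin (m + 1)} (hab : a ≠ b) (t : F) :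
    X a b t * w = w * X (π⁻¹ a) (π⁻¹ b) ((d (π⁻¹ a) * (d (π⁻¹ b))⁻¹)⁻¹ * t) := by
  have hne : π⁻¹ a ≠ π⁻¹ b := fun h => hab (π⁻¹.injective h)
  have h1 := WT_conj hX hn hw hmono hne ((d (π⁻¹ a) * (d (π⁻¹ b))⁻¹)⁻¹ * t)
  have e1 : π (π⁻¹ a) = a := by simp
  have e2 : π (π⁻¹ b) = b := by simp
  have hc : d (π⁻¹ a) * (d (π⁻¹ b))⁻¹ ≠ 0 :=
    mul_ne_zero (hmono.ne_zero _) (inv_ne_zero (hmono.ne_zero _))
  rw [e1, e2, mul_inv_cancel_left₀ hc] at h1
  rw [← h1]
  group

theorem pXab_conj_gen (k : Fin m) {i j : Fin (m + 1)} (hij : i < j)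
    (hne : ¬ (i = k.castSucc ∧ j = k.succ)) (s t : F) :
    X k.castSucc k.succ t * X i j s * (X k.castSucc k.succ t)⁻¹ ∈ UUk X k := by
  have hab := Fin.castSucc_lt_succ (i := k)
  by_cases hja : j = k.castSucc
  · subst hja
    have h1 := hX.comm i k.castSucc k.succ s t (ne_of_lt hij) (ne_of_lt hab)
      (ne_of_lt (hij.trans hab))
    have h2 : X k.castSucc k.succ t * X i k.castSucc s * (X k.castSucc k.succ t)⁻¹ =
        (X i k.succ (s * t))⁻¹ * X i k.castSucc s := by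
      rw [← h1, commutatorElement_def]; group
    rw [h2]
    refine mul_mem (inv_mem (Subgroup.subset_closure ⟨i, k.succ, _, hij.trans hab, ?_, rfl⟩))
      (Subgroup.subset_closure ⟨i, k.castSucc, _, hij, hne, rfl⟩)
    rintro ⟨h, -⟩
    exact (ne_of_lt hij) h
  · by_cases hib : i = k.succ
    · subst hib
      have h1 := hX.comm k.castSucc k.succ j t s (ne_of_lt hab) (ne_of_lt hij)
        (ne_of_lt (hab.trans hij))
      have h2 : X k.castSucc k.succ t * X k.succ j s * (X k.castSucc k.succ t)⁻¹ =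
          X k.castSucc j (t * s) * X k.succ j s := by
        rw [← h1, commutatorElement_def]; group
      rw [h2]
      refine mul_mem (Subgroup.subset_closure ⟨k.castSucc, j, _, hab.trans hij, ?_, rfl⟩)
        (Subgroup.subset_closure ⟨k.succ, j, _, hij, hne, rfl⟩)
      rintro ⟨-, h⟩
      exact (ne_of_gt hij) h
    · have h1 := hX.commute k.castSucc k.succ i j t s (ne_of_lt hab) (ne_of_lt hij)
        (Ne.symm hib) (Ne.symm hja)
      rw [h1.eq, mul_inv_cancel_right]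
      exact Subgroup.subset_closure ⟨i, j, s, hij, hne, rfl⟩

theorem pUU_split (k : Fin m) {u : E} (hu : u ∈ UU X) :
    ∃ u' ∈ UUk X k, ∃ t, u = u' * X k.castSucc k.succ t := by
  have hab := Fin.castSucc_lt_succ (i := k)
  have hgen : ∀ (i j : Fin (m + 1)) (s : F), i < j → ∀ u' ∈ UUk X k, ∀ t : F,
      ∃ u'' ∈ UUk X k, ∃ t', u' * X k.castSucc k.succ t * X i j s =
        u'' * X k.castSucc k.succ t' := by
    intro i j s hij u' hu' t
    by_cases h : i = k.castSucc ∧ j = k.succ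
    · obtain ⟨rfl, rfl⟩ := h
      exact ⟨u', hu', t + s, by rw [hX.add _ _ _ _ (ne_of_lt hab), mul_assoc]⟩
    · exact ⟨u' * (X k.castSucc k.succ t * X i j s * (X k.castSucc k.succ t)⁻¹),
        mul_mem hu' (pXab_conj_gen hX k hij h s t), t, by group⟩
  unfold UU at hu
  induction hu using Subgroup.closure_induction_right with
  | one => exact ⟨1, one_mem _, 0, by rw [hX.zero (ne_of_lt hab), mul_one]⟩
  | mul_right x _ y hy ih =>
    obtain ⟨u', hu', t, rfl⟩ := ih
    obtain ⟨i, j, s, hij, rfl⟩ := hy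
    exact hgen i j s hij u' hu' t
  | mul_inv_cancel x _ y hy ih =>
    obtain ⟨u', hu', t, rfl⟩ := ih
    obtain ⟨i, j, s, hij, rfl⟩ := hy
    rw [← hX.neg (ne_of_lt hij)]
    exact hgen i j (-s) hij u' hu' t

theorem pww_conj_UUk (hn : 3 ≤ Fintype.card (Fin (m + 1))) (k : Fin m) {u : F} (hu : u ≠ 0)
    {u' : E} (hu' : u' ∈ UUk X k) :
    ww X k.castSucc k.succ u * u' * (ww X k.castSucc k.succ u)⁻¹ ∈ UU X := by
  have hab := Fin.castSucc_lt_succ (i := k)
  unfold UUk at hu'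
  induction hu' using Subgroup.closure_induction with
  | mem x hx =>
    obtain ⟨i, j, s, hij, hne, rfl⟩ := hx
    rw [ww_cj hX hn (ne_of_lt hab) hu (ne_of_lt hij) s]
    refine Subgroup.subset_closure ⟨_, _, _, ?_, rfl⟩
    rw [Equiv.swap_apply_def, Equiv.swap_apply_def]
    have ha : (k.castSucc : Fin (m + 1)).val = k.val := rfl
    have hb : (k.succ : Fin (m + 1)).val = k.val + 1 := rfl
    rw [Fin.ext_iff, Fin.ext_iff, ha, hb] at hne
    rw [Fin.lt_def] at hij
    split_ifs with h1 h2 h3 h4 h5 h6 h7 h8 <;>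
      simp only [Fin.lt_def, Fin.ext_iff, ha, hb] at * <;> omega
  | one => simp
  | mul x y _ _ hx hy =>
    have : ww X k.castSucc k.succ u * (x * y) * (ww X k.castSucc k.succ u)⁻¹ =
        (ww X k.castSucc k.succ u * x * (ww X k.castSucc k.succ u)⁻¹) *
        (ww X k.castSucc k.succ u * y * (ww X k.castSucc k.succ u)⁻¹) := by group
    rw [this]; exact mul_mem hx hy
  | inv x _ hx =>
    have : ww X k.castSucc k.succ u * x⁻¹ * (ww X k.castSucc k.succ u)⁻¹ =
        (ww X k.castSucc k.succ u * x * (ww X k.castSucc k.succ u)⁻¹)⁻¹ := by group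
    rw [this]; exact inv_mem hx

variable (hm : 2 ≤ m)
include hm

theorem pinS_ww_X_mul (k : Fin m) {u : F} (hu : u ≠ 0) (t : F) {w : E} (hw : w ∈ WT X) :
    PInS X (ww X k.castSucc k.succ u * X k.castSucc k.succ t * w) := by
  have hab := cs_ne k
  have hn := pcard_fin_ge hm
  obtain ⟨π, d, hmono⟩ := WT_mono hX hn hw
  have hne : π⁻¹ k.castSucc ≠ π⁻¹ k.succ := fun h => hab (π⁻¹.injective h)
  have hXw := pX_mul_mono hX hn hw hmono hab t
  obtain ⟨s, hs⟩ : ∃ s : F, s = (d (π⁻¹ k.castSucc) * (d (π⁻¹ k.succ))⁻¹)⁻¹ * t := ⟨_, rfl⟩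
  rw [← hs] at hXw
  have hwu : ww X k.castSucc k.succ u ∈ WT X := ww_mem_WT hab hu
  rcases lt_or_gt_of_ne hne with hlt | hgt
  · refine ⟨1, one_mem _, ww X k.castSucc k.succ u * w, mul_mem hwu hw,
      X (π⁻¹ k.castSucc) (π⁻¹ k.succ) s,
      Subgroup.subset_closure ⟨_, _, _, hlt, rfl⟩, ?_⟩
    rw [one_mul, mul_assoc (ww X k.castSucc k.succ u), hXw, mul_assoc]
  · by_cases ht : t = 0
    · subst ht
      rw [hX.zero hab, mul_one]
      exact ⟨1, one_mem _, ww X k.castSucc k.succ u * w, mul_mem hwu hw, 1, one_mem _, by group⟩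
    · have h1 := pww_conj_X hX hn hab hu t
      obtain ⟨μ, hμ⟩ : ∃ μ : F, μ = -u⁻¹ * u⁻¹ * t := ⟨_, rfl⟩
      rw [← hμ] at h1
      have hμ0 : μ ≠ 0 := by
        rw [hμ]
        exact mul_ne_zero (mul_ne_zero (neg_ne_zero.2 (inv_ne_zero hu)) (inv_ne_zero hu)) ht
      have h2 := pX_eq_ww hX hab μ
      have hmono'' := (pisMono_ww hX hab hu).mul hmono
      rw [← map_mul] at hmono''
      have h3 := pX_mul_mono hX hn (mul_mem hwu hw) hmono'' hab μ⁻¹
      generalize hs' : (_ * (_ : F)⁻¹)⁻¹ * μ⁻¹ = s' at h3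
      have e1 : (Equiv.swap k.castSucc k.succ * π)⁻¹ k.castSucc = π⁻¹ k.succ := by
        rw [_root_.mul_inv_rev, Equiv.Perm.mul_apply, Equiv.swap_inv, Equiv.swap_apply_left]
      have e2 : (Equiv.swap k.castSucc k.succ * π)⁻¹ k.succ = π⁻¹ k.castSucc := by
        rw [_root_.mul_inv_rev, Equiv.Perm.mul_apply, Equiv.swap_inv, Equiv.swap_apply_right]
      rw [e1, e2] at h3
      refine ⟨X k.castSucc k.succ μ⁻¹,
        Subgroup.subset_closure ⟨_, _, _, Fin.castSucc_lt_succ, rfl⟩,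
        ww X k.castSucc k.succ (-μ⁻¹) * (ww X k.castSucc k.succ u * w),
        mul_mem (ww_mem_WT hab (neg_ne_zero.2 (inv_ne_zero hμ0))) (mul_mem hwu hw),
        X (π⁻¹ k.succ) (π⁻¹ k.castSucc) s',
        Subgroup.subset_closure ⟨_, _, _, hgt, rfl⟩, ?_⟩
      calc ww X k.castSucc k.succ u * X k.castSucc k.succ t * w
          = X k.succ k.castSucc μ * (ww X k.castSucc k.succ u * w) := by rw [← h1]; group
        _ = X k.castSucc k.succ μ⁻¹ * ww X k.castSucc k.succ (-μ⁻¹) *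
            (X k.castSucc k.succ μ⁻¹ * (ww X k.castSucc k.succ u * w)) := by rw [h2]; group
        _ = _ := by rw [h3]; group

theorem pinS_ww_adj (k : Fin m) {u : F} (hu : u ≠ 0) {z : E} (hz : PInS X z) :
    PInS X (ww X k.castSucc k.succ u * z) := by
  obtain ⟨u₁, hu₁, w, hw, u₂, hu₂, rfl⟩ := hz
  obtain ⟨u', hu', t, rfl⟩ := pUU_split hX k hu₁
  obtain ⟨v₁, hv₁, w', hw', v₂, hv₂, h⟩ := pinS_ww_X_mul hX hm k hu t hw
  refine ⟨ww X k.castSucc k.succ u * u' * (ww X k.castSucc k.succ u)⁻¹ * v₁,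
    mul_mem (pww_conj_UUk hX (pcard_fin_ge hm) k hu hu') hv₁, w', hw', v₂ * u₂, mul_mem hv₂ hu₂, ?_⟩
  calc ww X k.castSucc k.succ u * (u' * X k.castSucc k.succ t * w * u₂)
      = ww X k.castSucc k.succ u * u' * (ww X k.castSucc k.succ u)⁻¹ *
        (ww X k.castSucc k.succ u * X k.castSucc k.succ t * w) * u₂ := by group
    _ = _ := by rw [h]; group

theorem pinS_ww_lt : ∀ (δ : ℕ) (a b : Fin (m + 1)), b.val = a.val + 1 + δ → ∀ u : F, u ≠ 0 →
    ∀ z, PInS X z → PInS X (ww X a b u * z) := by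
  intro δ
  induction δ with
  | zero =>
    intro a b hab u hu z hz
    have hk : a.val < m := by have := b.2; omega
    have ha : a = (⟨a.val, hk⟩ : Fin m).castSucc := Fin.ext rfl
    have hb : b = (⟨a.val, hk⟩ : Fin m).succ := Fin.ext (by simp; omega)
    rw [ha, hb]
    exact pinS_ww_adj hX hm _ hu hz
  | succ δ ih =>
    intro a b hab u hu z hz
    have hk : b.val - 1 < m := by have := b.2; omega
    obtain ⟨kc, hkc⟩ : ∃ kc : Fin m, kc = ⟨b.val - 1, hk⟩ := ⟨_, rfl⟩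
    have hb : b = kc.succ := by rw [hkc]; exact Fin.ext (by simp; omega)
    have hac : a ≠ kc.castSucc := by
      intro h; rw [Fin.ext_iff, hkc] at h; simp at h; omega
    have hab' : a ≠ kc.succ := by
      intro h; rw [Fin.ext_iff, hkc] at h; simp at h; omega
    have hcb := cs_ne kc
    have h1 := pww_conj hX (pcard_fin_ge hm) (ww_mem_WT hcb one_ne_zero)
      (pisMono_ww hX hcb (u := 1) one_ne_zero) hac (u := -u) (neg_ne_zero.2 hu)
    rw [Equiv.swap_apply_of_ne_of_ne hac hab', Equiv.swap_apply_left] at h1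
    have hcoef : dW kc.castSucc kc.succ (1 : F) a * (dW kc.castSucc kc.succ (1 : F) kc.castSucc)⁻¹
        * -u = u := by
      simp [dW, hac, hab']
    rw [hcoef] at h1
    rw [hb, ← h1]
    have h2 : ww X kc.castSucc kc.succ 1 * ww X a kc.castSucc (-u) *
        (ww X kc.castSucc kc.succ 1)⁻¹ * z = ww X kc.castSucc kc.succ 1 *
        (ww X a kc.castSucc (-u) * (ww X kc.castSucc kc.succ (-1) * z)) := by
      rw [pww_neg hX hcb 1]; group
    rw [h2]
    refine pinS_ww_adj hX hm kc one_ne_zero (ih a kc.castSucc ?_ (-u) (neg_ne_zero.2 hu) _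
      (pinS_ww_adj hX hm kc (by simp) hz))
    rw [hkc]
    simp
    omega

theorem pinS_ww {a b : Fin (m + 1)} (hab : a ≠ b) {u : F} (hu : u ≠ 0) {z : E} (hz : PInS X z) :
    PInS X (ww X a b u * z) := by
  rcases lt_or_gt_of_ne hab with h | h
  · exact pinS_ww_lt hX hm (b.val - a.val - 1) a b (by rw [Fin.lt_def] at h; omega) u hu z hz
  · rw [pww_symm hX (pcard_fin_ge hm) hab.symm hu]
    exact pinS_ww_lt hX hm (a.val - b.val - 1) b a (by rw [Fin.lt_def] at h; omega) _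
      (neg_ne_zero.2 (inv_ne_zero hu)) z hz

theorem pinS_X {i j : Fin (m + 1)} (hij : i ≠ j) (t : F) {z : E} (hz : PInS X z) :
    PInS X (X i j t * z) := by
  rcases lt_or_gt_of_ne hij with h | h
  · exact pinS_mul_left_UU (Subgroup.subset_closure ⟨i, j, t, h, rfl⟩) hz
  · have h1 := pww_conj_X hX (pcard_fin_ge hm) hij.symm (a := 1) one_ne_zero (-t)
    have e : (-(1 : F)⁻¹ * 1⁻¹ * -t) = t := by simp
    rw [e] at h1
    have h2 : X i j t * z = ww X j i 1 * (X j i (-t) * (ww X j i (-1) * z)) := by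
      rw [← h1, pww_neg hX hij.symm 1]; group
    rw [h2]
    exact pinS_ww hX hm hij.symm one_ne_zero (pinS_mul_left_UU
      (Subgroup.subset_closure ⟨j, i, -t, h, rfl⟩) (pinS_ww hX hm hij.symm (by simp) hz))

theorem pinS_all (hgen : Subgroup.closure {x | ∃ (i j : Fin (m + 1)) (t : F), i ≠ j ∧
    x = X i j t} = ⊤) (z : E) : PInS X z := by
  have hz : z ∈ Subgroup.closure {x | ∃ (i j : Fin (m + 1)) (t : F), i ≠ j ∧ x = X i j t} := by
    rw [hgen]; trivial
  induction hz using Subgroup.closure_induction_left with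
  | one => exact ⟨1, one_mem _, 1, one_mem _, 1, one_mem _, by simp⟩
  | mul_left x hx y _ ih =>
    obtain ⟨i, j, t, hij, rfl⟩ := hx
    exact pinS_X hX hm hij t ih
  | inv_mul_cancel x hx y _ ih =>
    obtain ⟨i, j, t, hij, rfl⟩ := hx
    rw [← hX.neg hij]
    exact pinS_X hX hm hij (-t) ih


end Bruhat

end Cfsg.Agent.Lib.Helper35.SLPres
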