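import Mathlib
import Cfsg.Agent.Lib.Helper35.Pres.Bruhat

set_option autoImplicit false

namespace Cfsg.Agent.Lib.Helper35.SLPres

open scoped commutatorElement
open Cfsg.Agent.Lib.Helper35.SLn

section Fin

variable {m : ℕ} {F : Type*} [Field F] {E : Type*} [Group E]
  {τ : E →* Matrix.SpecialLinearGroup (Fin (m + 1)) F} {X : Fin (m + 1) → Fin (m + 1) → F → E}

/-- the kernel of a group generated by data satisfying (R1), (R2) is central -/
theorem ker_le_center_of_isPre (hX : IsPre τ X) (hm : 2 ≤ m)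
    (hgen : Subgroup.closure {x | ∃ (i j : Fin (m + 1)) (t : F), i ≠ j ∧ x = X i j t} = ⊤) :
    τ.ker ≤ Subgroup.center E := by
  have hn := pcard_fin_ge hm
  intro z hz
  rw [MonoidHom.mem_ker] at hz
  obtain ⟨u₁, hu₁, w, hw, u₂, hu₂, rfl⟩ := pinS_all hX hm hgen z
  obtain ⟨π, d, hmono⟩ := WT_mono hX hn hw
  have hτ : τ w = τ (u₁⁻¹ * u₂⁻¹) := by
    rw [map_mul, map_mul] at hz
    rw [map_mul, map_inv, map_inv]
    have : τ w = (τ u₁)⁻¹ * (τ u₁ * τ w * τ u₂) * (τ u₂)⁻¹ := by group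
    rw [this, hz, mul_one]
  have hu : u₁⁻¹ * u₂⁻¹ ∈ UU X := mul_mem (inv_mem hu₁) (inv_mem hu₂)
  rw [hτ] at hmono
  have h3 := pUU_mono_eq_one hX hu hmono
  have h4 := pUU_inj hX hu h3
  have h5 : τ w = 1 := by rw [hτ, h3]
  have hc := WT_ker_central hX hn hgen hw h5
  have h6 : u₂ = u₁⁻¹ := by
    have : u₂⁻¹ = u₁ := by
      have h7 : u₁ * (u₁⁻¹ * u₂⁻¹) = u₁ * 1 := by rw [h4]
      rw [mul_inv_cancel_left, mul_one] at h7
      exact h7
    rw [← this, inv_inv]
  rw [h6]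
  have h8 : u₁ * w * u₁⁻¹ = w := by
    rw [(Subgroup.mem_center_iff.1 hc) u₁, mul_inv_cancel_right]
  rw [h8]
  exact hc

end Fin

section Gen

variable {ι : Type*} [Fintype ι] [DecidableEq ι] {F : Type*} [Field F] {E : Type*} [Group E]
  {τ : E →* Matrix.SpecialLinearGroup ι F} {X : ι → ι → F → E}

/-- data satisfying (R1), (R2) in a central extension are Steinberg data -/
theorem isStein_of_isPre (hX : IsPre τ X) (hK : τ.ker ≤ Subgroup.center E)
    (hn : 3 ≤ Fintype.card ι) : IsStein τ X := by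
  refine ⟨hX.map, hX.add, hX.comm, hX.commute, ?_⟩
  intro e π d hm i j t hij
  obtain ⟨k, hki, hkj⟩ := exists_ne2 hn i j
  have hπik : π i ≠ π k := fun h => hki (π.injective h).symm
  have hπkj : π k ≠ π j := fun h => hkj (π.injective h)
  have hπij : π i ≠ π j := fun h => hij (π.injective h)
  have h1 := hX.comm i k j t 1 (Ne.symm hki) hkj hij
  rw [mul_one] at h1
  have ha : τ (e * X i k t * e⁻¹) = τ (X (π i) (π k) (d i * (d k)⁻¹ * t)) := by
    rw [map_mul, map_mul, map_inv, hX.map _ _ _ (Ne.symm hki), hX.map _ _ _ hπik,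
      hm.conj (Ne.symm hki)]
  have hb : τ (e * X k j 1 * e⁻¹) = τ (X (π k) (π j) (d k * (d j)⁻¹ * 1)) := by
    rw [map_mul, map_mul, map_inv, hX.map _ _ _ hkj, hX.map _ _ _ hπkj, hm.conj hkj]
  rw [← h1, cj_comm, comm_congr τ hK ha hb, hX.comm _ _ _ _ _ hπik hπkj hπij]
  congr 1
  have := hm.ne_zero k
  field_simp

end Gen

/-- a group generated by data satisfying (R1), (R2) over a finite field maps injectively -/
theorem ker_eq_bot_of_isPre {m : ℕ} {F : Type*} [Field F] [Fintype F] {E : Type*} [Group E]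
    {τ : E →* Matrix.SpecialLinearGroup (Fin (m + 1)) F} {X : Fin (m + 1) → Fin (m + 1) → F → E}
    (hX : IsPre τ X) (hm : 2 ≤ m)
    (hgen : Subgroup.closure {x | ∃ (i j : Fin (m + 1)) (t : F), i ≠ j ∧ x = X i j t} = ⊤) :
    τ.ker = ⊥ := by
  have hK := ker_le_center_of_isPre hX hm hgen
  exact ker_eq_bot_of_isStein (isStein_of_isPre hX hK (pcard_fin_ge hm)) hK hm hgen

end Cfsg.Agent.Lib.Helper35.SLPres
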